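import Groth.Agent.H98.KoszulDet.Bot
import Mathlib.LinearAlgebra.ExteriorAlgebra.Basic
import Mathlib.LinearAlgebra.Determinant

set_option autoImplicit false
universe u
open CategoryTheory CochainComplex HomComplex Limits
open Groth.Agent.H79.KoszulCone

namespace Groth.Agent.H98.KoszulDet

variable {A : Type u} [CommRing A]

section Linear

variable {K : CochainComplex (ModuleCat.{u} A) ℤ} (a : A)

theorem WopC_add (u0 v0 : A) (W1 W2 : ∀ p q : ℤ, q + 1 = p → (K.X p →ₗ[A] K.X q))
    (p q : ℤ) (h : q + 1 = p) :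
    WopC a (u0 + v0) (fun p q h => W1 p q h + W2 p q h) p q h =
      WopC a u0 W1 p q h + WopC a v0 W2 p q h := by
  ext x
  apply ext' (a • 𝟙 K) q p h
  · rw [LinearMap.add_apply, map_add, fstL_WopC _ _ _ p q (p + 1) h rfl,
      fstL_WopC _ _ _ p q (p + 1) h rfl, fstL_WopC _ _ _ p q (p + 1) h rfl,
      LinearMap.add_apply, add_smul]
    abel
  · rw [LinearMap.add_apply, map_add, sndL_WopC, sndL_WopC, sndL_WopC, LinearMap.add_apply]

theorem WopC_smul (c v0 : A) (W1 : ∀ p q : ℤ, q + 1 = p → (K.X p →ₗ[A] K.X q))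
    (p q : ℤ) (h : q + 1 = p) :
    WopC a (c * v0) (fun p q h => c • W1 p q h) p q h = c • WopC a v0 W1 p q h := by
  ext x
  apply ext' (a • 𝟙 K) q p h
  · rw [LinearMap.smul_apply, map_smul, fstL_WopC _ _ _ p q (p + 1) h rfl,
      fstL_WopC _ _ _ p q (p + 1) h rfl, LinearMap.smul_apply, smul_sub, mul_smul]
  · rw [LinearMap.smul_apply, map_smul, sndL_WopC, sndL_WopC, LinearMap.smul_apply]

theorem Wop_add : ∀ (l : List A) (u v : ℕ → A) (p q : ℤ) (h : q + 1 = p),
    Wop l (u + v) p q h = Wop l u p q h + Wop l v p q h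
  | [], u, v, p, q, h => by simp [Wop]
  | a :: l, u, v, p, q, h => by
    have e : Wop l (sh (u + v)) = fun p q h => Wop l (sh u) p q h + Wop l (sh v) p q h := by
      funext p q h
      exact Wop_add l (sh u) (sh v) p q h
    show WopC a ((u + v) 0) (Wop l (sh (u + v))) p q h =
      WopC a (u 0) (Wop l (sh u)) p q h + WopC a (v 0) (Wop l (sh v)) p q h
    rw [e]
    exact WopC_add a (u 0) (v 0) _ _ p q h

theorem Wop_smul : ∀ (l : List A) (c : A) (v : ℕ → A) (p q : ℤ) (h : q + 1 = p),
    Wop l (c • v) p q h = c • Wop l v p q h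
  | [], c, v, p, q, h => by simp [Wop]
  | a :: l, c, v, p, q, h => by
    have e : Wop l (sh (c • v)) = fun p q h => c • Wop l (sh v) p q h := by
      funext p q h
      exact Wop_smul l c (sh v) p q h
    show WopC a ((c • v) 0) (Wop l (sh (c • v))) p q h = c • WopC a (v 0) (Wop l (sh v)) p q h
    rw [e]
    exact WopC_smul a c (v 0) _ p q h

theorem Wop_zero (l : List A) (p q : ℤ) (h : q + 1 = p) : Wop l 0 p q h = 0 := by
  have := Wop_smul l (0 : A) 0 p q h
  rwa [zero_smul, zero_smul] at this

end Linear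

section Total

/-- the total space of the Koszul complex -/
abbrev T (l : List A) : Type u := ∀ p : ℤ, (KK l).X p

/-- the wedge operator on the total space -/
noncomputable def Wtot (l : List A) (v : ℕ → A) : T l →ₗ[A] T l :=
  LinearMap.pi fun q => Wop l v (q + 1) q rfl ∘ₗ LinearMap.proj (q + 1)

theorem Wtot_apply (l : List A) (v : ℕ → A) (t : T l) (q : ℤ) :
    Wtot l v t q = Wop l v (q + 1) q rfl (t (q + 1)) := rfl

theorem Wtot_apply' (l : List A) (v : ℕ → A) (t : T l) (p q : ℤ) (h : q + 1 = p) :
    Wtot l v t q = Wop l v p q h (t p) := by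
  subst h; rfl

/-- `v ↦ W_v` as a linear map into the endomorphism algebra of the total space -/
noncomputable def WtotL (l : List A) : (ℕ → A) →ₗ[A] Module.End A (T l) where
  toFun := Wtot l
  map_add' u v := by
    ext t q
    simp only [Wtot_apply, LinearMap.add_apply, Pi.add_apply, Wop_add]
  map_smul' c v := by
    ext t q
    simp only [Wtot_apply, LinearMap.smul_apply, Pi.smul_apply, Wop_smul, RingHom.id_apply]

theorem WtotL_sq (l : List A) (v : ℕ → A) : WtotL l v * WtotL l v = 0 := by
  ext t q
  change Wtot l v (Wtot l v t) q = 0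
  rw [Wtot_apply, Wtot_apply, Wop_Wop]

/-- the action of the exterior algebra on the total space -/
noncomputable def extAct (l : List A) : ExteriorAlgebra A (ℕ → A) →ₐ[A] Module.End A (T l) :=
  ExteriorAlgebra.lift A ⟨WtotL l, WtotL_sq l⟩

/-- iterated wedge operators -/
noncomputable def iterW (l : List A) : List (ℕ → A) → T l → T l
  | [], t => t
  | r :: rs, t => Wtot l r (iterW l rs t)

theorem prod_map_WtotL (l : List A) (rs : List (ℕ → A)) (t : T l) :
    ((rs.map (WtotL l)).prod) t = iterW l rs t := by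
  induction rs with
  | nil => simp [iterW]
  | cons r rs ih =>
    rw [List.map_cons, List.prod_cons, Module.End.mul_apply, ih]
    rfl

theorem extAct_ιMulti (l : List A) (n : ℕ) (rows : Fin n → (ℕ → A)) (t : T l) :
    extAct l (ExteriorAlgebra.ιMulti A n rows) t = iterW l (List.ofFn rows) t := by
  rw [ExteriorAlgebra.ιMulti_apply, map_list_prod, List.map_ofFn, ← prod_map_WtotL, List.map_ofFn]
  congr 3
  funext i
  simp [extAct]

/-- extension by zero of a finite coefficient vector -/
def extz (n : ℕ) : (Fin n → A) →ₗ[A] (ℕ → A) where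
  toFun c j := if h : j < n then c ⟨j, h⟩ else 0
  map_add' c d := by
    funext j
    by_cases h : j < n <;> simp [h]
  map_smul' r c := by
    funext j
    by_cases h : j < n <;> simp [h]

theorem extz_apply_fin (n : ℕ) (c : Fin n → A) (j : Fin n) : extz n c j = c j := by
  simp [extz]

/-- the alternating map computing the bottom coefficient -/
noncomputable def altMap (l : List A) (n : ℕ) (lam : T l →ₗ[A] A) (t0 : T l) :
    (Fin n → A) [⋀^Fin n]→ₗ[A] A :=
  (((lam ∘ₗ LinearMap.applyₗ t0) ∘ₗ (extAct l).toLinearMap).compAlternatingMap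
    (ExteriorAlgebra.ιMulti A n)).compLinearMap (extz n)

theorem altMap_apply (l : List A) (n : ℕ) (lam : T l →ₗ[A] A) (t0 : T l)
    (c : Fin n → Fin n → A) :
    altMap l n lam t0 c = lam (iterW l (List.ofFn fun i => extz n (c i)) t0) := by
  simp only [altMap, AlternatingMap.compLinearMap_apply, LinearMap.compAlternatingMap_apply,
    LinearMap.comp_apply, AlgHom.toLinearMap_apply, LinearMap.applyₗ_apply_apply]
  rw [← extAct_ιMulti]

/-- **determinant formula** for iterated wedge operators -/
theorem iterW_det (l : List A) (n : ℕ) (lam : T l →ₗ[A] A) (t0 : T l)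
    (c : Fin n → Fin n → A) :
    lam (iterW l (List.ofFn fun i => extz n (c i)) t0) =
      lam (iterW l (List.ofFn fun i : Fin n => extz n (Pi.single i 1)) t0) *
        (Matrix.of c).det := by
  have h := AlternatingMap.eq_smul_basis_det (Pi.basisFun A (Fin n)) (altMap l n lam t0)
  have h2 : altMap l n lam t0 c =
      (altMap l n lam t0 (Pi.basisFun A (Fin n)) • (Pi.basisFun A (Fin n)).det) c := by
    rw [← h]
  rw [AlternatingMap.smul_apply, Pi.basisFun_det_apply, smul_eq_mul, altMap_apply,
    altMap_apply] at h2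
  rw [h2]
  congr 5
  funext i
  congr 1
  funext j
  simp [Pi.basisFun_apply, Pi.single_apply, eq_comm]

end Total

end Groth.Agent.H98.KoszulDet
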