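import Groth.Agent.H98.KoszulDet.Wedge

set_option autoImplicit false
universe u
open CategoryTheory CochainComplex HomComplex Limits
open Groth.Agent.H79.KoszulCone

namespace Groth.Agent.H98.KoszulDet

variable {A : Type u} [CommRing A]

/-- the Koszul complex vanishes below degree `-length` -/
theorem isZero_X_of_lt : ∀ (l : List A) (p : ℤ), p + l.length < 0 → IsZero ((KK l).X p)
  | [], p, hp =>
    HomologicalComplex.isZero_single_obj_X (ComplexShape.up ℤ) 0 _ p (by simp at hp; omega)
  | a :: l, p, hp => by
    change IsZero ((mappingCone (a • 𝟙 (KK l))).X p)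
    rw [mappingCone.isZero_X_iff]
    have h1 : ((a :: l).length : ℤ) = l.length + 1 := by simp
    exact ⟨isZero_X_of_lt l (p + 1) (by omega), isZero_X_of_lt l p (by omega)⟩

theorem isZero_X_of_pos (l : List A) (p : ℤ) (hp : 0 < p) : IsZero ((KK l).X p) :=
  Groth.Agent.H79.KoszulTop.isZero_X_of_pos _ l p hp

section FstEquiv

variable {K : CochainComplex (ModuleCat.{u} A) ℤ} (a : A)

/-- when `K^p = 0`, the first projection identifies `cone^p` with `K^{p+1}` -/
noncomputable def fstEquiv (p q : ℤ) (h : p + 1 = q) (hz : IsZero (K.X p)) :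
    (mappingCone (a • 𝟙 K)).X p ≃ₗ[A] K.X q where
  toFun := fstL (a • 𝟙 K) p q h
  map_add' := map_add _
  map_smul' := map_smul _
  invFun := inlL (a • 𝟙 K) p q h
  left_inv x := by
    have := ModuleCat.subsingleton_of_isZero hz
    apply ext' (a • 𝟙 K) p q h
    · rw [fstL_inlL]
    · exact Subsingleton.elim _ _
  right_inv y := fstL_inlL _ p q h y

/-- when `K^{p+1} = 0`, the second projection identifies `cone^p` with `K^p` -/
noncomputable def sndEquiv (p q : ℤ) (h : p + 1 = q) (hz : IsZero (K.X q)) :
    (mappingCone (a • 𝟙 K)).X p ≃ₗ[A] K.X p where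
  toFun := sndL (a • 𝟙 K) p
  map_add' := map_add _
  map_smul' := map_smul _
  invFun := inrL (a • 𝟙 K) p
  left_inv x := by
    have := ModuleCat.subsingleton_of_isZero hz
    apply ext' (a • 𝟙 K) p q h
    · exact Subsingleton.elim _ _
    · rw [sndL_inrL]
  right_inv y := sndL_inrL _ p y

end FstEquiv

/-- identification of the bottom term with the ring -/
noncomputable def botIso : ∀ (l : List A) (p : ℤ), p + l.length = 0 → ((KK l).X p ≃ₗ[A] A)
  | [], p, hp =>
    have h0 : p = 0 := by simpa using hp
    (h0 ▸ (HomologicalComplex.singleObjXSelf (ComplexShape.up ℤ) 0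
      (ModuleCat.of A A)).toLinearEquiv : (KK ([] : List A)).X p ≃ₗ[A] A)
  | a :: l, p, hp =>
    (fstEquiv (K := KK l) a p (p + 1) rfl (isZero_X_of_lt l p (by
        have h1 : ((a :: l).length : ℤ) = l.length + 1 := by simp
        omega))).trans
      (botIso l (p + 1) (by
        have h1 : ((a :: l).length : ℤ) = l.length + 1 := by simp
        omega))

/-- the generator of the bottom term -/
noncomputable def botGen (l : List A) (p : ℤ) (hp : p + l.length = 0) : (KK l).X p :=
  (botIso l p hp).symm 1

theorem botIso_botGen (l : List A) (p : ℤ) (hp : p + l.length = 0) :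
    botIso l p hp (botGen l p hp) = 1 := by
  simp [botGen]

theorem eq_smul_botGen (l : List A) (p : ℤ) (hp : p + l.length = 0) (z : (KK l).X p) :
    z = botIso l p hp z • botGen l p hp := by
  apply (botIso l p hp).injective
  rw [map_smul, botIso_botGen, smul_eq_mul, mul_one]

theorem botGen_cons (a : A) (l : List A) (p : ℤ) (hp : p + ((a :: l).length : ℤ) = 0)
    (hp' : p + 1 + (l.length : ℤ) = 0) :
    botGen (a :: l) p hp = inlL (a • 𝟙 (KK l)) p (p + 1) rfl (botGen l (p + 1) hp') := by
  rfl

/-- the generator of the top term -/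
noncomputable def topGen (l : List A) : (KK l).X 0 :=
  (Groth.Agent.H79.KoszulTopNat.topIso (ModuleCat.of A A) l).symm (1 : A)

theorem topIso_topGen (l : List A) :
    Groth.Agent.H79.KoszulTopNat.topIso (ModuleCat.of A A) l (topGen l) = (1 : A) := by
  simp [topGen]

theorem topGen_cons (a : A) (l : List A) :
    topGen (a :: l) = inrL (a • 𝟙 (KK l)) 0 (topGen l) := by
  apply (Groth.Agent.H79.KoszulTopNat.topIso (ModuleCat.of A A) (a :: l)).injective
  rw [topIso_topGen]
  have := Groth.Agent.H79.KoszulTopNat.topIso_cons (ModuleCat.of A A) a l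
    (inrL (a • 𝟙 (KK l)) 0 (topGen l))
  rw [sndL_inrL, topIso_topGen] at this
  exact this.symm

end Groth.Agent.H98.KoszulDet
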