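import Groth.Agent.H98.KoszulDet.Main
import Groth.Agent.H79.KoszulNat
import Mathlib.LinearAlgebra.TensorProduct.RightExactness
import Mathlib.RingTheory.Flat.Stability
import Mathlib.RingTheory.RingHom.Flat
import Mathlib.LinearAlgebra.Matrix.Adjugate

set_option autoImplicit false
universe u
open CategoryTheory Limits TensorProduct

namespace Groth.Agent.H98.KoszulDet

/-- Koszul-regular sequences are preserved by flat ring maps (after helper39, re-proved here to keep
the import closure small). -/
theorem isKoszulRegularSeq_map_of_flat' {B S : Type u} [CommRing B] [CommRing S] (φ : B →+* S)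
    (hφ : φ.Flat) (l : List B) (hl : LCI.IsKoszulRegularSeq B l) :
    LCI.IsKoszulRegularSeq S (l.map φ) := by
  intro i hi
  show IsZero ((Koszul.koszul S (l.map φ)).homology i)
  have key : ∀ (K L : CochainComplex (ModuleCat.{u} S) ℤ) (_ : K = L),
      IsZero (L.homology i) → IsZero (K.homology i) := by
    intro K L h
    subst h
    exact id
  refine key _ _ (Groth.Agent.H79.KoszulCone.koszul_eq _) ?_
  rw [← Groth.Agent.H79.KoszulNat.isZero_homology_restrict_iff φ (ModuleCat.of S S) l i]
  letI := φ.toAlgebra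
  haveI : Module.Flat B ((ModuleCat.restrictScalars φ).obj (ModuleCat.of S S)) := hφ
  exact Groth.Agent.H79.KoszulNat.isZero_homology_of_flat l i (hl i hi) _

section Cramer

variable {Q : Type u} [CommRing Q] {n : ℕ}

/-- Cramer's rule: `det c • g ∈ (c g)` -/
theorem det_mul_mem_span (g f' : Fin n → Q) (c : Matrix (Fin n) (Fin n) Q)
    (hc : ∀ i, f' i = ∑ j, c i j * g j) (k : Fin n) :
    c.det * g k ∈ Ideal.span (Set.range f') := by
  have h1 : c.mulVec g = f' := by
    funext i
    rw [hc i]
    rfl
  have h2 : (c.adjugate * c).mulVec g = c.det • g := by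
    rw [Matrix.adjugate_mul, Matrix.smul_mulVec, Matrix.one_mulVec]
  rw [← Matrix.mulVec_mulVec, h1] at h2
  have h3 := congrFun h2 k
  rw [Pi.smul_apply, smul_eq_mul] at h3
  rw [← h3]
  change ∑ i, c.adjugate k i * f' i ∈ _
  exact Ideal.sum_mem _ fun i _ => Ideal.mul_mem_left _ _ (Ideal.subset_span ⟨i, rfl⟩)

/-- **Wiebe's theorem**: `((c g) : (g)) = (det c) + (c g)` for Koszul-regular `g` and `c g`. -/
theorem mem_colon_iff (g f' : Fin n → Q) (c : Matrix (Fin n) (Fin n) Q)
    (hc : ∀ i, f' i = ∑ j, c i j * g j)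
    (hf : LCI.IsKoszulRegularSeq Q (List.ofFn f')) (hg : LCI.IsKoszulRegularSeq Q (List.ofFn g))
    (x : Q) :
    (∀ j, x * g j ∈ Ideal.span (Set.range f')) ↔
      x ∈ Ideal.span {c.det} ⊔ Ideal.span (Set.range f') := by
  constructor
  · exact mem_span_det_sup n g f' c hc hf hg x
  · intro hx j
    obtain ⟨a, ha, b, hb, rfl⟩ := Submodule.mem_sup.mp hx
    obtain ⟨r, rfl⟩ := Ideal.mem_span_singleton'.mp ha
    rw [add_mul, mul_assoc]
    exact add_mem (Ideal.mul_mem_left _ _ (det_mul_mem_span g f' c hc j))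
      (Ideal.mul_mem_right _ _ hb)

end Cramer

end Groth.Agent.H98.KoszulDet
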