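import Groth.Agent.H98.KoszulDet.Diag

set_option autoImplicit false
universe u
open CategoryTheory Limits TensorProduct

namespace Groth.Agent.H98.KoszulDet

/-- **Annihilator of the diagonal of a flat global complete intersection** (general form with an
arbitrary presentation `π : P ↠ B`). -/
theorem annihilator_ker_lmul'_eq {A P B : Type u} [CommRing A] [CommRing P] [Algebra A P]
    [CommRing B] [Algebra A B] [Module.Flat A B] (π : P →ₐ[A] B) (hπ : Function.Surjective π)
    {n : ℕ} (f : Fin n → P) (hker : RingHom.ker π = Ideal.span (Set.range f))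
    (hf : LCI.IsKoszulRegularSeq P (List.ofFn f))
    (g : Fin n → P ⊗[A] B) (hg : LCI.IsKoszulRegularSeq (P ⊗[A] B) (List.ofFn g))
    (hgker : Ideal.span (Set.range g) =
      RingHom.ker (Algebra.TensorProduct.productMap π (AlgHom.id A B)))
    (c : Matrix (Fin n) (Fin n) (P ⊗[A] B))
    (hc : ∀ i, f i ⊗ₜ[A] (1 : B) = ∑ j, c i j * g j) :
    Submodule.annihilator (RingHom.ker (Algebra.TensorProduct.lmul' (S := B) A)) =
      Ideal.span {Algebra.TensorProduct.map π (AlgHom.id A B) (Matrix.det c)} := by
  classical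
  have hρ : Function.Surjective (Algebra.TensorProduct.map π (AlgHom.id A B)) :=
    Algebra.TensorProduct.map_surjective π (AlgHom.id A B) hπ Function.surjective_id
  have hkerρ : RingHom.ker (Algebra.TensorProduct.map π (AlgHom.id A B)) =
      Ideal.span (Set.range fun i => f i ⊗ₜ[A] (1 : B)) := by
    rw [Algebra.TensorProduct.rTensor_ker π hπ, hker, Ideal.map_span]
    congr 1
    ext z
    simp only [Set.mem_image, Set.mem_range]
    constructor
    · rintro ⟨_, ⟨i, rfl⟩, rfl⟩
      exact ⟨i, rfl⟩
    · rintro ⟨i, rfl⟩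
      exact ⟨f i, ⟨i, rfl⟩, rfl⟩
  have hf' : LCI.IsKoszulRegularSeq (P ⊗[A] B) (List.ofFn fun i => f i ⊗ₜ[A] (1 : B)) := by
    have h := isKoszulRegularSeq_map_of_flat' (algebraMap P (P ⊗[A] B))
      (RingHom.flat_algebraMap_iff.mpr inferInstance) _ hf
    rw [List.map_ofFn] at h
    have e : (⇑(algebraMap P (P ⊗[A] B)) ∘ f) = fun i => f i ⊗ₜ[A] (1 : B) := by
      funext i
      simp [Algebra.TensorProduct.algebraMap_apply]
    rwa [e] at h
  have hJ : RingHom.ker (Algebra.TensorProduct.lmul' (S := B) A) =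
      Ideal.map (Algebra.TensorProduct.map π (AlgHom.id A B)) (Ideal.span (Set.range g)) := by
    rw [hgker]
    have : RingHom.ker (Algebra.TensorProduct.productMap π (AlgHom.id A B)) =
        Ideal.comap (Algebra.TensorProduct.map π (AlgHom.id A B))
          (RingHom.ker (Algebra.TensorProduct.lmul' (S := B) A)) := by
      ext z
      simp only [RingHom.mem_ker, Ideal.mem_comap]
      rw [Algebra.TensorProduct.productMap_eq_comp_map]
      rfl
    rw [this, Ideal.map_comap_of_surjective _ hρ]
  ext a
  constructor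
  · intro ha
    obtain ⟨x, rfl⟩ := hρ a
    have hx : ∀ j, x * g j ∈ Ideal.span (Set.range fun i => f i ⊗ₜ[A] (1 : B)) := by
      intro j
      rw [← hkerρ, RingHom.mem_ker, map_mul]
      have hm : Algebra.TensorProduct.map π (AlgHom.id A B) (g j) ∈
          RingHom.ker (Algebra.TensorProduct.lmul' (S := B) A) := by
        rw [hJ]
        exact Ideal.mem_map_of_mem _ (Ideal.subset_span ⟨j, rfl⟩)
      exact Submodule.mem_annihilator.mp ha _ hm
    have hmem := (mem_colon_iff g (fun i => f i ⊗ₜ[A] (1 : B)) c hc hf' hg x).mp hx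
    obtain ⟨u, hu, v, hv, rfl⟩ := Submodule.mem_sup.mp hmem
    obtain ⟨r, rfl⟩ := Ideal.mem_span_singleton'.mp hu
    have hv0 : Algebra.TensorProduct.map π (AlgHom.id A B) v = 0 := by
      rw [← RingHom.mem_ker, hkerρ]
      exact hv
    rw [map_add, map_mul, hv0, add_zero]
    exact Ideal.mul_mem_left _ _ (Ideal.subset_span rfl)
  · intro ha
    obtain ⟨r, rfl⟩ := Ideal.mem_span_singleton'.mp ha
    rw [Submodule.mem_annihilator]
    intro m hm
    rw [hJ] at hm
    obtain ⟨j, hj, rfl⟩ := (Ideal.mem_map_iff_of_surjective _ hρ).mp hm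
    have hdj : c.det * j ∈ Ideal.span (Set.range fun i => f i ⊗ₜ[A] (1 : B)) := by
      refine Submodule.span_induction ?_ ?_ ?_ ?_ hj
      · rintro _ ⟨k, rfl⟩
        exact det_mul_mem_span g _ c hc k
      · rw [mul_zero]
        exact zero_mem _
      · intro a b _ _ ha hb
        rw [mul_add]
        exact add_mem ha hb
      · intro s a _ ha
        rw [smul_eq_mul, mul_left_comm]
        exact Ideal.mul_mem_left _ _ ha
    have h0 : Algebra.TensorProduct.map π (AlgHom.id A B) (c.det * j) = 0 := by
      rw [← RingHom.mem_ker, hkerρ]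
      exact hdj
    rw [smul_eq_mul, mul_assoc, ← map_mul, h0, mul_zero]

end Groth.Agent.H98.KoszulDet
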