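import Groth.Agent.H98.KoszulDet.Wiebe
import Groth.Prelude.Def_LCI2

set_option autoImplicit false
universe u
open CategoryTheory CochainComplex HomComplex Limits
open Groth.Agent.H79.KoszulCone Groth.Agent.H79.KoszulTor Groth.Agent.H79.KoszulTopNat

namespace Groth.Agent.H98.KoszulDet

variable {A : Type u} [CommRing A]

theorem pair_ofFn : ∀ (n : ℕ) (v : ℕ → A) (g : Fin n → A),
    pair v (List.ofFn g) = ∑ i : Fin n, v i * g i
  | 0, v, g => by simp
  | n + 1, v, g => by
    rw [List.ofFn_succ, pair_cons, pair_ofFn n (sh v) (fun i => g i.succ), Fin.sum_univ_succ]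
    rfl

theorem ofList_ofFn (n : ℕ) (g : Fin n → A) :
    Ideal.ofList (List.ofFn g) = Ideal.span (Set.range g) := by
  unfold Ideal.ofList
  congr 1
  ext x
  simp [List.mem_ofFn]

theorem src_ofFn (n : ℕ) (g : Fin n → A) (c : Fin n → Fin n → A) (f' : Fin n → A)
    (hc : ∀ i, f' i = ∑ j, c i j * g j) :
    src (List.ofFn g) (List.ofFn fun i => extz n (c i)) = List.ofFn f' := by
  rw [src, List.map_ofFn]
  congr 1
  funext i
  rw [Function.comp_apply, pair_ofFn, hc i]
  refine Finset.sum_congr rfl fun j _ => ?_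
  rw [extz_apply_fin]

theorem koszulReg_iff (l : List A) :
    LCI.IsKoszulRegularSeq A l ↔ ∀ i : ℤ, i ≠ 0 → IsZero ((KK l).homology i) := by
  unfold LCI.IsKoszulRegularSeq
  have key : ∀ (K L : CochainComplex (ModuleCat.{u} A) ℤ) (_ : K = L) (i : ℤ),
      IsZero (K.homology i) ↔ IsZero (L.homology i) := by
    intro K L h i
    subst h
    rfl
  exact forall_congr' fun i => imp_congr_right fun _ => key _ _ (koszul_eq l) i

/-- the bottom coefficient of the comparison map is the determinant -/
theorem botIso_iterW_eq_det (n : ℕ) (g : Fin n → A) (c : Fin n → Fin n → A) (p : ℤ)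
    (hp : p + ((List.ofFn g).length : ℤ) = 0) :
    botIso (List.ofFn g) p hp
      (iterW (List.ofFn g) (List.ofFn fun i => extz n (c i))
        (Pi.single 0 (topGen (List.ofFn g))) p) = (Matrix.of c).det := by
  have h := iterW_det (List.ofFn g) n
    ((botIso (List.ofFn g) p hp).toLinearMap ∘ₗ LinearMap.proj p)
    (Pi.single 0 (topGen (List.ofFn g))) c
  simp only [LinearMap.comp_apply, LinearMap.proj_apply, LinearEquiv.coe_coe] at h
  rw [h, ofFn_extz_single]
  have hlen : n = (List.ofFn g).length := (List.length_ofFn).symm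
  have h2 := iterW_stdList (List.ofFn g) p hp
  rw [← hlen] at h2
  rw [h2, botIso_botGen, one_mul]

/-- **Wiebe-type theorem**: let `f' = c g` with `f'` and `g` Koszul-regular sequences of the same
length.  Then `((f') : (g)) ⊆ (det c) + (f')`. -/
theorem mem_span_det_sup (n : ℕ) (g f' : Fin n → A) (c : Matrix (Fin n) (Fin n) A)
    (hc : ∀ i, f' i = ∑ j, c i j * g j)
    (hf : LCI.IsKoszulRegularSeq A (List.ofFn f')) (hg : LCI.IsKoszulRegularSeq A (List.ofFn g))
    (x : A) (hx : ∀ j, x * g j ∈ Ideal.span (Set.range f')) :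
    x ∈ Ideal.span {c.det} ⊔ Ideal.span (Set.range f') := by
  have hsrc := src_ofFn n g (fun i j => c i j) f' hc
  have hf' : ∀ i : ℤ, i ≠ 0 → IsZero ((KK (src (List.ofFn g)
      (List.ofFn fun i => extz n (fun j => c i j)))).homology i) := by
    rw [hsrc]
    exact (koszulReg_iff _).mp hf
  have hg' := (koszulReg_iff _).mp hg
  have hx' : ∀ j ∈ Ideal.ofList (List.ofFn g), x * j ∈ Ideal.ofList (src (List.ofFn g)
      (List.ofFn fun i => extz n (fun j => c i j))) := by
    rw [hsrc, ofList_ofFn, ofList_ofFn]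
    intro j hj
    refine Submodule.span_induction ?_ ?_ ?_ ?_ hj
    · rintro _ ⟨k, rfl⟩
      exact hx k
    · rw [mul_zero]
      exact zero_mem _
    · intro a b _ _ ha hb
      rw [mul_add]
      exact add_mem ha hb
    · intro r a _ ha
      rw [smul_eq_mul, mul_left_comm]
      exact Ideal.mul_mem_left _ _ ha
  have hp : -(n : ℤ) + ((List.ofFn g).length : ℤ) = 0 := by
    rw [List.length_ofFn]
    omega
  have key := mem_span_sup (List.ofFn g) (List.ofFn fun i => extz n (fun j => c i j)) hf' hg' x
    hx' (by rw [List.length_ofFn, List.length_ofFn]) (-(n : ℤ)) hp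
  rw [botIso_iterW_eq_det n g (fun i j => c i j) _ hp, hsrc, ofList_ofFn] at key
  exact key

end Groth.Agent.H98.KoszulDet
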