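import Groth.Agent.H98.KoszulDet.Alt

set_option autoImplicit false
universe u
open CategoryTheory CochainComplex HomComplex Limits
open Groth.Agent.H79.KoszulCone

namespace Groth.Agent.H98.KoszulDet

variable {A : Type u} [CommRing A]

/-- inclusion of total spaces induced by `inr` -/
noncomputable def inrT (a : A) (l : List A) : T l →ₗ[A] T (a :: l) :=
  LinearMap.pi fun p =>
    ((inrL (a • 𝟙 (KK l)) p ∘ₗ LinearMap.proj p : T l →ₗ[A] (mappingCone (a • 𝟙 (KK l))).X p))

theorem inrT_apply (a : A) (l : List A) (t : T l) (p : ℤ) :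
    inrT a l t p = inrL (a • 𝟙 (KK l)) p (t p) := rfl

theorem Wtot_inrT (a : A) (l : List A) (u : ℕ → A) (hu : u 0 = 0) (t : T l) :
    Wtot (a :: l) u (inrT a l t) = inrT a l (Wtot l (sh u) t) := by
  funext q
  show WopC a (u 0) (Wop l (sh u)) (q + 1) q rfl (inrL (a • 𝟙 (KK l)) (q + 1) (t (q + 1))) =
    inrL (a • 𝟙 (KK l)) q (Wop l (sh u) (q + 1) q rfl (t (q + 1)))
  apply ext' (a • 𝟙 (KK l)) q (q + 1) rfl
  · rw [fstL_WopC _ _ _ (q + 1) q (q + 1 + 1) rfl rfl, fstL_inrL, fstL_inrL, hu, zero_smul,
      map_zero, sub_zero]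
  · rw [sndL_WopC, sndL_inrL, sndL_inrL]

theorem iterW_inrT (a : A) (l : List A) (us : List (ℕ → A)) (h0 : ∀ u ∈ us, u 0 = 0) (t : T l) :
    iterW (a :: l) us (inrT a l t) = inrT a l (iterW l (us.map sh) t) := by
  induction us with
  | nil => rfl
  | cons u us ih =>
    have h1 : ∀ u' ∈ us, u' 0 = 0 := fun u' hu' => h0 u' (List.mem_cons_of_mem _ hu')
    show Wtot (a :: l) u (iterW (a :: l) us (inrT a l t)) = _
    rw [ih h1, Wtot_inrT a l u (h0 u List.mem_cons_self)]
    rfl

theorem sh_single_succ (j : ℕ) : sh (Pi.single (j + 1) (1 : A) : ℕ → A) = Pi.single j 1 := by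
  funext i
  simp [sh, Pi.single_apply]

theorem sh_single_zero : sh (Pi.single 0 (1 : A) : ℕ → A) = 0 := by
  funext i
  simp [sh, Pi.single_apply]

theorem Wtot_single_zero_inrT (a : A) (l : List A) (t : T l) (q : ℤ) :
    Wtot (a :: l) (Pi.single 0 1) (inrT a l t) q =
      inlL (a • 𝟙 (KK l)) q (q + 1) rfl (t (q + 1)) := by
  show WopC a ((Pi.single 0 1 : ℕ → A) 0) (Wop l (sh (Pi.single 0 1))) (q + 1) q rfl
    (inrL (a • 𝟙 (KK l)) (q + 1) (t (q + 1))) = _
  apply ext' (a • 𝟙 (KK l)) q (q + 1) rfl
  · rw [fstL_WopC _ _ _ (q + 1) q (q + 1 + 1) rfl rfl, fstL_inrL, sndL_inrL, map_zero, sub_zero,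
      fstL_inlL, Pi.single_eq_same, one_smul]
  · rw [sndL_WopC, sndL_inlL, sh_single_zero, Wop_zero, LinearMap.zero_apply]

theorem single_topGen_cons (a : A) (l : List A) :
    (Pi.single 0 (topGen (a :: l)) : T (a :: l)) = inrT a l (Pi.single 0 (topGen l)) := by
  funext p
  rw [inrT_apply]
  by_cases hp : p = 0
  · subst hp
    rw [Pi.single_eq_same, Pi.single_eq_same, topGen_cons]
  · rw [Pi.single_eq_of_ne hp, Pi.single_eq_of_ne hp, map_zero]
    rfl

/-- the standard coefficient vectors -/
def stdList (n : ℕ) : List (ℕ → A) := (List.range n).map fun j => Pi.single j 1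

theorem stdList_succ (n : ℕ) :
    stdList (A := A) (n + 1) =
      Pi.single 0 1 :: (List.range n).map fun j => (Pi.single (j + 1) 1 : ℕ → A) := by
  rw [stdList, List.range_succ_eq_map, List.map_cons, List.map_map]
  rfl

/-- **normalization**: wedging all the standard vectors onto the top generator gives the bottom
generator -/
theorem iterW_stdList : ∀ (l : List A) (p : ℤ) (hp : p + l.length = 0),
    iterW l (stdList l.length) (Pi.single 0 (topGen l)) p = botGen l p hp
  | [], p, hp => by
    have h0 : p = 0 := by simpa using hp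
    subst h0
    show (Pi.single 0 (topGen ([] : List A)) : T ([] : List A)) 0 = _
    rw [Pi.single_eq_same]
    rfl
  | a :: l, p, hp => by
    have hp' : p + 1 + (l.length : ℤ) = 0 := by
      have h1 : ((a :: l).length : ℤ) = l.length + 1 := by simp
      omega
    rw [show (a :: l).length = l.length + 1 from rfl, stdList_succ, single_topGen_cons]
    show Wtot (a :: l) (Pi.single 0 1) (iterW (a :: l) _ (inrT a l _)) p = _
    rw [iterW_inrT a l _ (by
        intro u hu
        obtain ⟨j, _, rfl⟩ := List.mem_map.mp hu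
        simp [Pi.single_apply]),
      Wtot_single_zero_inrT, List.map_map, botGen_cons a l p hp hp']
    congr 1
    have : (sh ∘ fun j => (Pi.single (j + 1) 1 : ℕ → A)) = fun j => Pi.single j 1 := by
      funext j
      exact sh_single_succ j
    rw [this]
    exact iterW_stdList l (p + 1) hp'

theorem ofFn_extz_single (n : ℕ) :
    (List.ofFn fun i : Fin n => extz n (Pi.single i (1 : A))) = stdList n := by
  rw [stdList, List.ofFn_eq_map, ← List.map_coe_finRange_eq_range, List.map_map]
  congr 1
  funext i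
  funext j
  simp only [extz, LinearMap.coe_mk, AddHom.coe_mk, Function.comp_apply, Pi.single_apply]
  by_cases h : j < n
  · simp [h, Fin.ext_iff]
  · simp only [h, dite_false]
    have : j ≠ (i : ℕ) := fun e => h (e ▸ i.2)
    simp [this]

end Groth.Agent.H98.KoszulDet
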