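import Groth.Agent.H98.KoszulDet.Norm

set_option autoImplicit false
universe u
open CategoryTheory CochainComplex HomComplex Limits
open Groth.Agent.H79.KoszulCone

namespace Groth.Agent.H98.KoszulDet

variable {A : Type u} [CommRing A]

section Desc

variable {K L : CochainComplex (ModuleCat.{u} A) ℤ} (c : A) (ψ : K ⟶ L)
  (W : ∀ p q : ℤ, q + 1 = p → (L.X p →ₗ[A] L.X q))

/-- the components of the map out of the cone of `c` given by a chain map `ψ` and a
null-homotopy `W` of `c` on the target -/
noncomputable def descL (p : ℤ) : (mappingCone (c • 𝟙 K)).X p →ₗ[A] L.X p :=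
  W (p + 1) p rfl ∘ₗ (ψ.f (p + 1)).hom ∘ₗ fstL (c • 𝟙 K) p (p + 1) rfl +
    (ψ.f p).hom ∘ₗ sndL (c • 𝟙 K) p

theorem descL_apply (p r : ℤ) (hr : p + 1 = r) (x : (mappingCone (c • 𝟙 K)).X p) :
    descL c ψ W p x =
      W r p hr ((ψ.f r).hom (fstL (c • 𝟙 K) p r hr x)) + (ψ.f p).hom (sndL (c • 𝟙 K) p x) := by
  subst hr
  rfl

theorem hom_comm_apply (p q : ℤ) (z : K.X p) :
    (L.d p q).hom ((ψ.f p).hom z) = (ψ.f q).hom ((K.d p q).hom z) := by
  have h := ψ.comm p q
  have := congr($(h).hom z)
  rw [ModuleCat.hom_comp, ModuleCat.hom_comp] at this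
  exact this

variable (hW : ∀ (p q r : ℤ) (h : q + 1 = p) (hr : p + 1 = r) (x : L.X p),
      (L.d q p).hom (W p q h x) + W r p hr ((L.d p r).hom x) = c • x)

include hW in
theorem descL_comm (p q : ℤ) (hpq : p + 1 = q) (x : (mappingCone (c • 𝟙 K)).X p) :
    (L.d p q).hom (descL c ψ W p x) =
      descL c ψ W q (((mappingCone (c • 𝟙 K)).d p q).hom x) := by
  rw [descL_apply c ψ W p q hpq, descL_apply c ψ W q (q + 1) rfl, map_add,
    fstL_d (c • 𝟙 K) p q (q + 1) hpq rfl, sndL_d (c • 𝟙 K) p q hpq, smul_id_f_apply,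
    map_add, map_smul, map_neg, map_neg, hom_comm_apply ψ p q, ← hom_comm_apply ψ q (q + 1)]
  have e := hW q p (q + 1) hpq rfl ((ψ.f q).hom (fstL (c • 𝟙 K) p q hpq x))
  rw [← e]
  abel

/-- the chain map out of the cone -/
noncomputable def descC : mappingCone (c • 𝟙 K) ⟶ L where
  f p := ModuleCat.ofHom (descL c ψ W p)
  comm' p q hpq := by
    apply ModuleCat.hom_ext
    apply LinearMap.ext
    intro x
    exact descL_comm c ψ W hW p q hpq x

theorem descC_f_apply (p : ℤ) (x : (mappingCone (c • 𝟙 K)).X p) :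
    ((descC c ψ W hW).f p).hom x = descL c ψ W p x := rfl

end Desc

/-- the source list: the rows paired with `g` -/
def src (g : List A) (rs : List (ℕ → A)) : List A := rs.map fun r => pair r g

@[simp] theorem src_nil (g : List A) : src g [] = [] := rfl
@[simp] theorem src_cons (g : List A) (r : ℕ → A) (rs : List (ℕ → A)) :
    src g (r :: rs) = pair r g :: src g rs := rfl
@[simp] theorem length_src (g : List A) (rs : List (ℕ → A)) : (src g rs).length = rs.length := by
  simp [src]

/-- the base case: `A[0] → K(g)` -/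
noncomputable def PhiNil (g : List A) : KK ([] : List A) ⟶ KK g :=
  HomologicalComplex.mkHomFromSingle
    (ModuleCat.ofHom (LinearMap.toSpanSingleton A ((KK g).X 0) (topGen g)))
    (fun k hk => (isZero_X_of_pos g k (by
      simp only [ComplexShape.up_Rel] at hk
      omega)).eq_of_tgt _ _)

/-- the comparison map `K(c g) → K(g)` of Koszul complexes induced by the rows `rs` of `c` -/
noncomputable def Phi (g : List A) : ∀ rs : List (ℕ → A), KK (src g rs) ⟶ KK g
  | [] => PhiNil g
  | r :: rs => descC (pair r g) (Phi g rs) (Wop g r) (d_Wop g r)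

open Groth.Agent.H79.KoszulTopNat in
theorem PhiNil_f_zero_apply (g : List A) (x : (KK ([] : List A)).X 0) :
    ((PhiNil g).f 0).hom x = (topIso (ModuleCat.of A A) [] x) • topGen g := by
  have h := HomologicalComplex.mkHomFromSingle_f
    (ModuleCat.ofHom (LinearMap.toSpanSingleton A ((KK g).X 0) (topGen g)))
    (fun k hk => (isZero_X_of_pos g k (by
      simp only [ComplexShape.up_Rel] at hk
      omega)).eq_of_tgt _ _)
  have := congr($(h).hom x)
  exact this

theorem Phi_cons_f_apply (g : List A) (r : ℕ → A) (rs : List (ℕ → A)) (p : ℤ)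
    (x : (mappingCone (pair r g • 𝟙 (KK (src g rs)))).X p) :
    ((Phi g (r :: rs)).f p).hom x = descL (pair r g) (Phi g rs) (Wop g r) p x := rfl

open Groth.Agent.H79.KoszulTopNat in
theorem topIso_Phi_cons (g : List A) (r : ℕ → A) (rs : List (ℕ → A))
    (ih : ∀ y : (KK (src g rs)).X 0, topIso (ModuleCat.of A A) g (((Phi g rs).f 0).hom y) =
      topIso (ModuleCat.of A A) (src g rs) y)
    (x : (mappingCone (pair r g • 𝟙 (KK (src g rs)))).X 0) :
    topIso (ModuleCat.of A A) g (descL (pair r g) (Phi g rs) (Wop g r) 0 x) =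
      topIso (ModuleCat.of A A) (src g rs) (sndL (pair r g • 𝟙 (KK (src g rs))) 0 x) := by
  have hsub : Subsingleton ((KK (src g rs)).X 1) :=
    ModuleCat.subsingleton_of_isZero (isZero_X_of_pos _ 1 one_pos)
  rw [descL_apply _ _ _ 0 1 (by norm_num),
    Subsingleton.elim (fstL (pair r g • 𝟙 (KK (src g rs))) 0 1 (by norm_num) x) 0,
    map_zero, map_zero, zero_add, ih]

open Groth.Agent.H79.KoszulTopNat in
/-- `Φ` is the identity on top terms -/
theorem topIso_Phi (g : List A) : ∀ (rs : List (ℕ → A)) (x : (KK (src g rs)).X 0),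
    topIso (ModuleCat.of A A) g (((Phi g rs).f 0).hom x) =
      topIso (ModuleCat.of A A) (src g rs) x
  | [], x => by
    have h1 := PhiNil_f_zero_apply g x
    have h2 : topIso (ModuleCat.of A A) g (((PhiNil g).f 0).hom x) =
        topIso (ModuleCat.of A A) g (topIso (ModuleCat.of A A) [] x • topGen g) :=
      congrArg _ h1
    rw [map_smul, topIso_topGen, smul_eq_mul, mul_one] at h2
    exact h2
  | r :: rs, x =>
    (topIso_Phi_cons g r rs (topIso_Phi g rs) x).trans
      (topIso_cons (ModuleCat.of A A) (pair r g) (src g rs) x).symm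

/-- `Φ` on the bottom generator is the iterated wedge of the rows -/
theorem Phi_botGen (g : List A) : ∀ (rs : List (ℕ → A)) (p : ℤ)
    (hp : p + ((src g rs).length : ℤ) = 0),
    ((Phi g rs).f p).hom (botGen (src g rs) p hp) = iterW g rs (Pi.single 0 (topGen g)) p
  | [], p, hp => by
    have h0 : p = 0 := by simpa using hp
    subst h0
    show ((PhiNil g).f 0).hom (botGen ([] : List A) 0 hp) = (Pi.single 0 (topGen g) : T g) 0
    rw [Pi.single_eq_same, PhiNil_f_zero_apply]
    have : Groth.Agent.H79.KoszulTopNat.topIso (ModuleCat.of A A) []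
        (botGen ([] : List A) 0 hp) = (1 : A) := by
      have := botIso_botGen ([] : List A) 0 hp
      exact this
    rw [this, one_smul]
  | r :: rs, p, hp => by
    have hp' : p + 1 + ((src g rs).length : ℤ) = 0 := by
      have h1 : ((src g (r :: rs)).length : ℤ) = (src g rs).length + 1 := by simp
      omega
    have e0 := botGen_cons (pair r g) (src g rs) p hp hp'
    have e1 := Phi_cons_f_apply g r rs p (inlL (pair r g • 𝟙 (KK (src g rs))) p (p + 1) rfl
      (botGen (src g rs) (p + 1) hp'))
    rw [descL_apply _ _ _ p (p + 1) rfl, fstL_inlL, sndL_inlL, map_zero, add_zero,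
      Phi_botGen g rs (p + 1) hp'] at e1
    show _ = Wtot g r (iterW g rs (Pi.single 0 (topGen g))) p
    rw [Wtot_apply]
    exact (congrArg _ e0).trans e1

end Groth.Agent.H98.KoszulDet
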