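import Groth.Agent.H98.KoszulDet.Phi
import Groth.Agent.H79.KoszulTor

set_option autoImplicit false
universe u
open CategoryTheory CochainComplex HomComplex Limits
open Groth.Agent.H79.KoszulCone Groth.Agent.H79.KoszulTor Groth.Agent.H79.KoszulTopNat

namespace Groth.Agent.H98.KoszulDet

variable {A : Type u} [CommRing A]

theorem map_mem_smul_top {M N : Type*} [AddCommGroup M] [Module A M] [AddCommGroup N]
    [Module A N] (f : M →ₗ[A] N) (I : Ideal A) {z : M} (hz : z ∈ I • (⊤ : Submodule A M)) :
    f z ∈ I • (⊤ : Submodule A N) := by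
  refine Submodule.smul_induction_on hz (fun r hr n _ => ?_) (fun x y hx hy => ?_)
  · rw [map_smul]
    exact Submodule.smul_mem_smul hr trivial
  · rw [map_add]
    exact add_mem hx hy

theorem smul_top_mono {M : Type*} [AddCommGroup M] [Module A M] {I J : Ideal A} (h : I ≤ J)
    {z : M} (hz : z ∈ I • (⊤ : Submodule A M)) : z ∈ J • (⊤ : Submodule A M) :=
  Submodule.smul_mono_left h hz

/-- all differentials of the Koszul complex have image in `(l) K` -/
theorem d_mem_smul_top : ∀ (l : List A) (p q : ℤ) (z : (KK l).X p),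
    ((KK l).d p q).hom z ∈ Ideal.ofList l • (⊤ : Submodule A ((KK l).X q))
  | [], p, q, z => by
    have : (KK ([] : List A)).d p q = 0 := HomologicalComplex.single_obj_d _ _ _ _ _
    rw [this]
    exact zero_mem _
  | a :: l, p, q, z => by
    by_cases hpq : p + 1 = q
    · have hle : Ideal.ofList l ≤ Ideal.ofList (a :: l) := by
        rw [Ideal.ofList_cons]
        exact le_sup_right
      have ha : a ∈ Ideal.ofList (a :: l) := by
        rw [Ideal.ofList_cons]
        exact Ideal.mem_sup_left (Ideal.mem_span_singleton_self a)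
      have key : ∀ w : (mappingCone (a • 𝟙 (KK l))).X p,
          ((mappingCone (a • 𝟙 (KK l))).d p q).hom w ∈
            Ideal.ofList (a :: l) • (⊤ : Submodule A ((mappingCone (a • 𝟙 (KK l))).X q)) := by
        intro w
        rw [decomp (a • 𝟙 (KK l)) q (q + 1) rfl (((mappingCone (a • 𝟙 (KK l))).d p q).hom w),
          fstL_d (a • 𝟙 (KK l)) p q (q + 1) hpq rfl, sndL_d (a • 𝟙 (KK l)) p q hpq,
          smul_id_f_apply]
        apply add_mem
        · rw [map_neg]
          apply neg_mem
          exact map_mem_smul_top _ _ (smul_top_mono hle (d_mem_smul_top l q (q + 1) _))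
        · rw [map_add]
          apply add_mem
          · rw [map_smul]
            exact Submodule.smul_mem_smul ha trivial
          · exact map_mem_smul_top _ _ (smul_top_mono hle (d_mem_smul_top l p q _))
      exact key z
    · have : (KK (a :: l)).d p q = 0 := (KK (a :: l)).shape p q hpq
      rw [this]
      exact zero_mem _

theorem pair_mem : ∀ (v : ℕ → A) (l : List A), pair v l ∈ Ideal.ofList l
  | v, [] => by simp
  | v, a :: l => by
    rw [pair_cons, Ideal.ofList_cons]
    exact add_mem (Ideal.mem_sup_left (Ideal.mul_mem_left _ _ (Ideal.mem_span_singleton_self a)))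
      (Ideal.mem_sup_right (pair_mem (sh v) l))

theorem ofList_src_le (g : List A) (rs : List (ℕ → A)) : Ideal.ofList (src g rs) ≤ Ideal.ofList g := by
  rw [Ideal.ofList, Ideal.span_le]
  intro x hx
  obtain ⟨r, _, rfl⟩ := List.mem_map.mp hx
  exact pair_mem r g

section Resolution

variable (l : List A)

/-- the augmentation `K^0 → A/(l)` through the explicit top identification -/
noncomputable def aug : (KK l).X 0 →ₗ[A] (A ⧸ Ideal.ofList l) :=
  (Submodule.mkQ (Ideal.ofList l)) ∘ₗ (topIso (ModuleCat.of A A) l).toLinearMap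

theorem aug_apply (z : (KK l).X 0) :
    aug l z = Ideal.Quotient.mk (Ideal.ofList l) (topIso (ModuleCat.of A A) l z) := rfl

theorem aug_surjective : Function.Surjective (aug l) := by
  unfold aug
  rw [LinearMap.coe_comp]
  exact (Submodule.mkQ_surjective _).comp (LinearEquiv.surjective _)

theorem ker_aug (b : ℤ) (hb : b + 1 = 0) :
    LinearMap.ker (aug l) = LinearMap.range ((KK l).d b 0).hom := by
  ext k
  rw [LinearMap.mem_range, range_d_iff (ModuleCat.of A A) l b hb k, LinearMap.mem_ker]
  unfold aug
  rw [LinearMap.comp_apply, Submodule.mkQ_apply, Submodule.Quotient.mk_eq_zero]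
  have : (Ideal.ofList l • (⊤ : Submodule A A)) = Ideal.ofList l := by
    rw [Ideal.smul_top_eq_map]
    simp
  have key : ∀ x : A, x ∈ Ideal.ofList l ↔ x ∈ (Ideal.ofList l • (⊤ : Submodule A A)) :=
    fun x => by rw [this]
  exact key _

theorem d_comp_aug' :
    (toChain (KK l)).d 1 0 ≫
      (ModuleCat.ofHom (aug l) :
        (toChain (KK l)).X 0 ⟶ ModuleCat.of A (A ⧸ Ideal.ofList l)) = 0 := by
  ext x
  have h := ker_aug l (-((1 : ℕ) : ℤ)) (by simp)
  have hx : ((KK l).d (-((1 : ℕ) : ℤ)) 0).hom x ∈ LinearMap.ker (aug l) := by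
    rw [h]
    exact ⟨x, rfl⟩
  exact LinearMap.mem_ker.mp hx

/-- the augmentation of the Koszul chain complex -/
noncomputable def resπ' :
    toChain (KK l) ⟶
      (ChainComplex.single₀ (ModuleCat.{u} A)).obj (ModuleCat.of A (A ⧸ Ideal.ofList l)) :=
  (ChainComplex.toSingle₀Equiv _ _).symm ⟨ModuleCat.ofHom (aug l), d_comp_aug' l⟩

theorem resπ'_f_zero : (resπ' l).f 0 = ModuleCat.ofHom (aug l) :=
  ChainComplex.toSingle₀Equiv_symm_apply_f_zero _ _

variable (hreg : ∀ i : ℤ, i ≠ 0 → IsZero ((KK l).homology i))

include hreg in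
theorem quasiIso_resπ' : QuasiIso (resπ' l) where
  quasiIsoAt m := by
    rcases m with _ | m
    · rw [ChainComplex.quasiIsoAt₀_iff, ShortComplex.quasiIso_iff_of_zeros' _
        ((toChain (KK l)).shape 0 0 (by simp)) rfl rfl]
      constructor
      · rw [ShortComplex.moduleCat_exact_iff_range_eq_ker]
        have h := ker_aug l (-((1 : ℕ) : ℤ)) (by simp)
        change LinearMap.range ((KK l).d (-((1 : ℕ) : ℤ)) 0).hom =
          LinearMap.ker ((resπ' l).f 0).hom
        rw [← h]
        congr 1
      · rw [ModuleCat.epi_iff_surjective]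
        change Function.Surjective ((resπ' l).f 0).hom
        rw [resπ'_f_zero]
        exact aug_surjective l
    · rw [quasiIsoAt_iff_exactAt' (hL := ChainComplex.exactAt_succ_single_obj ..),
        HomologicalComplex.exactAt_iff' _ (m + 2) (m + 1) m (by simp) (by simp),
        ShortComplex.moduleCat_exact_iff_range_eq_ker]
      have h1 := hreg (-((m + 1 : ℕ) : ℤ)) (by
        have : (0 : ℤ) < ((m + 1 : ℕ) : ℤ) := by positivity
        omega)
      rw [← HomologicalComplex.exactAt_iff_isZero_homology,
        HomologicalComplex.exactAt_iff' _ (-((m + 2 : ℕ) : ℤ)) (-((m + 1 : ℕ) : ℤ)) (-(m : ℤ))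
          (by simp; omega) (by simp),
        ShortComplex.moduleCat_exact_iff_range_eq_ker] at h1
      exact h1

/-- the Koszul complex of a Koszul-regular sequence as a projective resolution, with the explicit
augmentation -/
noncomputable def koszulRes : ProjectiveResolution (ModuleCat.of A (A ⧸ Ideal.ofList l)) where
  complex := toChain (KK l)
  projective n := by
    have := projective_X l (-(n : ℤ))
    exact (IsProjective.iff_projective (R := A) (P := (KK l).X (-(n : ℤ)))).mp this
  π := resπ' l
  quasiIso := quasiIso_resπ' l hreg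

end Resolution

end Groth.Agent.H98.KoszulDet
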