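import Groth.Agent.H79.KoszulTopNat

set_option autoImplicit false
universe u
open CategoryTheory CochainComplex HomComplex Limits
open Groth.Agent.H79.KoszulCone

namespace Groth.Agent.H98.KoszulDet

variable {A : Type u} [CommRing A]

/-- shorthand for the Koszul complex of the ring (cone model) -/
noncomputable abbrev KK (l : List A) : CochainComplex (ModuleCat.{u} A) ℤ :=
  CohIII.koszulCx (ModuleCat.of A A) l

/-- shift of a coefficient sequence -/
def sh (v : ℕ → A) : ℕ → A := fun i => v (i + 1)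

/-- pairing of a coefficient sequence with a list -/
def pair (v : ℕ → A) : List A → A
  | [] => 0
  | a :: l => v 0 * a + pair (sh v) l

@[simp] theorem pair_nil (v : ℕ → A) : pair v [] = 0 := rfl
@[simp] theorem pair_cons (v : ℕ → A) (a : A) (l : List A) :
    pair v (a :: l) = v 0 * a + pair (sh v) l := rfl

section ConeStep

variable {K : CochainComplex (ModuleCat.{u} A) ℤ} (a v0 : A)
  (W' : ∀ p q : ℤ, q + 1 = p → (K.X p →ₗ[A] K.X q))

/-- the cone step of the wedge operator: `(x, y) ↦ (v0 y - W' x, W' y)` -/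
noncomputable def WopC (p q : ℤ) (h : q + 1 = p) :
    (mappingCone (a • 𝟙 K)).X p →ₗ[A] (mappingCone (a • 𝟙 K)).X q :=
  inlL (a • 𝟙 K) q p h ∘ₗ
      (v0 • sndL (a • 𝟙 K) p - W' (p + 1) p rfl ∘ₗ fstL (a • 𝟙 K) p (p + 1) rfl) +
    inrL (a • 𝟙 K) q ∘ₗ W' p q h ∘ₗ sndL (a • 𝟙 K) p

theorem fstL_WopC (p q r : ℤ) (h : q + 1 = p) (hr : p + 1 = r)
    (x : (mappingCone (a • 𝟙 K)).X p) :
    fstL (a • 𝟙 K) q p h (WopC a v0 W' p q h x) =
      v0 • sndL (a • 𝟙 K) p x - W' r p hr (fstL (a • 𝟙 K) p r hr x) := by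
  subst hr
  simp only [WopC, LinearMap.add_apply, LinearMap.comp_apply, LinearMap.sub_apply,
    LinearMap.smul_apply, map_add, fstL_inlL, fstL_inrL, add_zero]

theorem sndL_WopC (p q : ℤ) (h : q + 1 = p) (x : (mappingCone (a • 𝟙 K)).X p) :
    sndL (a • 𝟙 K) q (WopC a v0 W' p q h x) = W' p q h (sndL (a • 𝟙 K) p x) := by
  simp only [WopC, LinearMap.add_apply, LinearMap.comp_apply, map_add, sndL_inlL, sndL_inrL,
    zero_add]

theorem WopC_WopC
    (hW : ∀ (p q s : ℤ) (h : q + 1 = p) (h' : s + 1 = q) (x : K.X p), W' q s h' (W' p q h x) = 0)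
    (p q s : ℤ) (h : q + 1 = p) (h' : s + 1 = q) (x : (mappingCone (a • 𝟙 K)).X p) :
    WopC a v0 W' q s h' (WopC a v0 W' p q h x) = 0 := by
  apply ext' (a • 𝟙 K) s q h'
  · rw [fstL_WopC a v0 W' q s p h' h, sndL_WopC, fstL_WopC a v0 W' p q (p + 1) h rfl, map_zero,
      map_sub, map_smul, hW (p + 1) p q rfl h]
    simp
  · rw [sndL_WopC, sndL_WopC, hW p q s h h', map_zero]

theorem d_WopC (c : A)
    (hW : ∀ (p q r : ℤ) (h : q + 1 = p) (hr : p + 1 = r) (x : K.X p),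
      (K.d q p).hom (W' p q h x) + W' r p hr ((K.d p r).hom x) = c • x)
    (p q r : ℤ) (h : q + 1 = p) (hr : p + 1 = r) (x : (mappingCone (a • 𝟙 K)).X p) :
    ((mappingCone (a • 𝟙 K)).d q p).hom (WopC a v0 W' p q h x) +
      WopC a v0 W' r p hr (((mappingCone (a • 𝟙 K)).d p r).hom x) = (v0 * a + c) • x := by
  apply ext' (a • 𝟙 K) p r hr
  · rw [map_add, fstL_d (a • 𝟙 K) q p r h hr, fstL_WopC a v0 W' p q r h hr,
      fstL_WopC a v0 W' r p (r + 1) hr rfl, sndL_d (a • 𝟙 K) p r hr,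
      fstL_d (a • 𝟙 K) p r (r + 1) hr rfl, smul_id_f_apply, map_smul]
    have e := hW r p (r + 1) hr rfl (fstL (a • 𝟙 K) p r hr x)
    simp only [map_sub, map_smul, map_neg, smul_add, add_smul] at e ⊢
    rw [← e, mul_smul]
    abel
  · rw [map_add, sndL_d (a • 𝟙 K) q p h, sndL_WopC, fstL_WopC a v0 W' p q r h hr, sndL_WopC,
      sndL_d (a • 𝟙 K) p r hr, smul_id_f_apply, smul_id_f_apply, map_smul]
    have e := hW p q r h hr (sndL (a • 𝟙 K) p x)
    simp only [map_add, map_smul, smul_sub, add_smul] at e ⊢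
    rw [← e, mul_smul, smul_comm v0 a]
    abel

end ConeStep

/-- the wedge operator `∑ v_j e_j ∧ -` on the cone model of the Koszul complex -/
noncomputable def Wop : ∀ (l : List A) (_ : ℕ → A) (p q : ℤ) (_ : q + 1 = p),
    (KK l).X p →ₗ[A] (KK l).X q
  | [], _, _, _, _ => 0
  | a :: l, v, p, q, h => WopC a (v 0) (Wop l (sh v)) p q h

theorem Wop_cons (a : A) (l : List A) (v : ℕ → A) (p q : ℤ) (h : q + 1 = p) :
    Wop (a :: l) v p q h = WopC a (v 0) (Wop l (sh v)) p q h := rfl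

/-- `W_v ∘ W_v = 0` -/
theorem Wop_Wop : ∀ (l : List A) (v : ℕ → A) (p q s : ℤ) (h : q + 1 = p) (h' : s + 1 = q)
    (x : (KK l).X p), Wop l v q s h' (Wop l v p q h x) = 0
  | [], v, p, q, s, h, h', x => by simp [Wop]
  | a :: l, v, p, q, s, h, h', x =>
    WopC_WopC a (v 0) (Wop l (sh v)) (Wop_Wop l (sh v)) p q s h h' x

/-- `d W_v + W_v d = ⟨v, l⟩` -/
theorem d_Wop : ∀ (l : List A) (v : ℕ → A) (p q r : ℤ) (h : q + 1 = p) (hr : p + 1 = r)
    (x : (KK l).X p),
    ((KK l).d q p).hom (Wop l v p q h x) + Wop l v r p hr (((KK l).d p r).hom x) = pair v l • x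
  | [], v, p, q, r, h, hr, x => by simp [Wop]
  | a :: l, v, p, q, r, h, hr, x =>
    d_WopC a (v 0) (Wop l (sh v)) (pair (sh v) l) (d_Wop l (sh v)) p q r h hr x

end Groth.Agent.H98.KoszulDet
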