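import Groth.Agent.H98.KoszulDet.Res

set_option autoImplicit false
universe u
open CategoryTheory CochainComplex HomComplex Limits
open Groth.Agent.H79.KoszulCone Groth.Agent.H79.KoszulTor Groth.Agent.H79.KoszulTopNat

namespace Groth.Agent.H98.KoszulDet

variable {A : Type u} [CommRing A]

/-- the comparison map on the associated chain complexes -/
noncomputable def PhiCh (g : List A) (rs : List (ℕ → A)) :
    toChain (KK (src g rs)) ⟶ toChain (KK g) where
  f n := (Phi g rs).f (-(n : ℤ))
  comm' i j _ := (Phi g rs).comm (-(i : ℤ)) (-(j : ℤ))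

theorem PhiCh_f (g : List A) (rs : List (ℕ → A)) (n : ℕ) :
    (PhiCh g rs).f n = (Phi g rs).f (-(n : ℤ)) := rfl

/-- a null-homotopic endomorphism of the Koszul chain complex maps the bottom term into
`(l) K` -/
theorem htpy_top_mem (l : List A) (ψ : toChain (KK l) ⟶ toChain (KK l)) (H : Homotopy ψ 0)
    (n : ℕ) (hn : IsZero ((toChain (KK l)).X (n + 1))) (z : (toChain (KK l)).X n) :
    (ψ.f n).hom z ∈ Ideal.ofList l • (⊤ : Submodule A ((toChain (KK l)).X n)) := by
  have hcomm := H.comm n
  rw [HomologicalComplex.zero_f, add_zero] at hcomm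
  have hprev : prevD n H.hom = 0 := by
    rw [prevD_eq H.hom (show (ComplexShape.down ℕ).Rel (n + 1) n by simp)]
    have : H.hom n (n + 1) = 0 := hn.eq_of_tgt _ _
    rw [this, zero_comp]
  rw [hprev, add_zero] at hcomm
  rw [hcomm]
  change (H.hom ((ComplexShape.down ℕ).next n) n).hom
    (((toChain (KK l)).d n ((ComplexShape.down ℕ).next n)).hom z) ∈ _
  apply map_mem_smul_top
  exact d_mem_smul_top l _ _ z

section ChainWrappers

/-- the top identification on the chain complex -/
noncomputable def topIsoCh (l : List A) : (toChain (KK l)).X 0 ≃ₗ[A] A :=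
  topIso (ModuleCat.of A A) l

/-- the augmentation on the chain complex -/
noncomputable def augCh (l : List A) : (toChain (KK l)).X 0 →ₗ[A] (A ⧸ Ideal.ofList l) :=
  aug l

theorem augCh_apply (l : List A) (z : (toChain (KK l)).X 0) :
    augCh l z = Ideal.Quotient.mk (Ideal.ofList l) (topIsoCh l z) := rfl

theorem resπ'_f_zero_apply (l : List A) (z : (toChain (KK l)).X 0) :
    ((resπ' l).f 0).hom z = augCh l z := by
  have h := resπ'_f_zero l
  have := congr($(h).hom z)
  exact this

theorem topIsoCh_PhiCh (g : List A) (rs : List (ℕ → A)) (z : (toChain (KK (src g rs))).X 0) :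
    topIsoCh g (((PhiCh g rs).f 0).hom z) = topIsoCh (src g rs) z :=
  topIso_Phi g rs z

/-- the bottom identification on the chain complex -/
noncomputable def botIsoCh (l : List A) (n : ℕ) (hn : -(n : ℤ) + (l.length : ℤ) = 0) :
    (toChain (KK l)).X n ≃ₗ[A] A :=
  botIso l (-(n : ℤ)) hn

/-- the bottom generator on the chain complex -/
noncomputable def botGenCh (l : List A) (n : ℕ) (hn : -(n : ℤ) + (l.length : ℤ) = 0) :
    (toChain (KK l)).X n :=
  botGen l (-(n : ℤ)) hn

theorem botIsoCh_botGenCh (l : List A) (n : ℕ) (hn : -(n : ℤ) + (l.length : ℤ) = 0) :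
    botIsoCh l n hn (botGenCh l n hn) = 1 :=
  botIso_botGen l _ hn

theorem PhiCh_botGenCh (g : List A) (rs : List (ℕ → A)) (n : ℕ)
    (hn : -(n : ℤ) + (g.length : ℤ) = 0) (hn' : -(n : ℤ) + ((src g rs).length : ℤ) = 0) :
    ((PhiCh g rs).f n).hom (botGenCh (src g rs) n hn') =
      botIso g (-(n : ℤ)) hn (iterW g rs (Pi.single 0 (topGen g)) (-(n : ℤ))) •
        botGenCh g n hn :=
  (Phi_botGen g rs _ hn').trans (eq_smul_botGen g (-(n : ℤ)) hn _)

end ChainWrappers

section Main

variable (g : List A) (rs : List (ℕ → A))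
  (hf : ∀ i : ℤ, i ≠ 0 → IsZero ((KK (src g rs)).homology i))
  (hg : ∀ i : ℤ, i ≠ 0 → IsZero ((KK g).homology i))
  (x : A) (hx : ∀ j ∈ Ideal.ofList g, x * j ∈ Ideal.ofList (src g rs))

/-- multiplication by `x` as a map `A/J → A/I'` -/
noncomputable def mulQ : (A ⧸ Ideal.ofList g) →ₗ[A] (A ⧸ Ideal.ofList (src g rs)) :=
  Submodule.mapQ (Ideal.ofList g) (Ideal.ofList (src g rs)) (x • LinearMap.id) (by
    intro j hj
    rw [Submodule.mem_comap, LinearMap.smul_apply, LinearMap.id_apply, smul_eq_mul]
    exact hx j hj)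

theorem mulQ_mk (a : A) :
    mulQ g rs x hx (Ideal.Quotient.mk (Ideal.ofList g) a) =
      Ideal.Quotient.mk (Ideal.ofList (src g rs)) (x * a) := rfl

/-- the lift of multiplication by `x` to the Koszul resolutions -/
noncomputable def xi : toChain (KK g) ⟶ toChain (KK (src g rs)) :=
  ProjectiveResolution.lift (ModuleCat.ofHom (mulQ g rs x hx)) (koszulRes g hg)
    (koszulRes (src g rs) hf)

theorem aug_xi (w : (toChain (KK g)).X 0) :
    augCh (src g rs) (((xi g rs hf hg x hx).f 0).hom w) =
      mulQ g rs x hx (augCh g w) := by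
  have h := ProjectiveResolution.lift_commutes_zero (ModuleCat.ofHom (mulQ g rs x hx))
    (koszulRes g hg) (koszulRes (src g rs) hf)
  have h2 := congr($(h).hom w)
  change ((resπ' (src g rs)).f 0).hom (((xi g rs hf hg x hx).f 0).hom w) =
    (mulQ g rs x hx) (((resπ' g).f 0).hom w) at h2
  rw [resπ'_f_zero_apply, resπ'_f_zero_apply] at h2
  exact h2

/-- the chain endomorphism `ξ ∘ Φ - x` of the Koszul complex of the source -/
noncomputable def psi : toChain (KK (src g rs)) ⟶ toChain (KK (src g rs)) :=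
  PhiCh g rs ≫ xi g rs hf hg x hx - x • 𝟙 _

theorem psi_f_apply (n : ℕ) (z : (toChain (KK (src g rs))).X n) :
    ((psi g rs hf hg x hx).f n).hom z =
      ((xi g rs hf hg x hx).f n).hom (((PhiCh g rs).f n).hom z) - x • z := by
  simp only [psi, HomologicalComplex.sub_f_apply, HomologicalComplex.comp_f,
    HomologicalComplex.smul_f_apply, HomologicalComplex.id_f, ModuleCat.hom_sub,
    ModuleCat.hom_comp, ModuleCat.hom_smul, ModuleCat.hom_id, LinearMap.sub_apply,
    LinearMap.comp_apply, LinearMap.smul_apply, LinearMap.id_apply]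

theorem psi_comp_π :
    (psi g rs hf hg x hx : (koszulRes (src g rs) hf).complex ⟶ (koszulRes (src g rs) hf).complex) ≫
      (koszulRes (src g rs) hf).π = 0 := by
  apply HomologicalComplex.to_single_hom_ext
  change (psi g rs hf hg x hx).f 0 ≫ (resπ' (src g rs)).f 0 = 0
  apply ModuleCat.hom_ext
  apply LinearMap.ext
  intro z
  change ((resπ' (src g rs)).f 0).hom (((psi g rs hf hg x hx).f 0).hom z) = 0
  rw [resπ'_f_zero_apply, psi_f_apply, map_sub, map_smul, aug_xi, augCh_apply, augCh_apply,
    topIsoCh_PhiCh, mulQ_mk, Algebra.smul_def, Ideal.Quotient.algebraMap_eq, ← map_mul]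
  exact sub_self _

/-- the null-homotopy -/
noncomputable def psiHtpy : Homotopy (psi g rs hf hg x hx) 0 :=
  ProjectiveResolution.liftHomotopyZero (P := koszulRes (src g rs) hf)
    (Q := koszulRes (src g rs) hf) (psi g rs hf hg x hx) (psi_comp_π g rs hf hg x hx)

include hf hg hx in
/-- **Wiebe-type theorem, abstract form**: if `x (g) ⊆ (c g)` and both sequences are
Koszul-regular then `x ∈ (δ) + (c g)`, where `δ` is the bottom coefficient of the comparison map. -/
theorem mem_span_sup (hlen : rs.length = g.length) (p : ℤ) (hp : p + (g.length : ℤ) = 0) :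
    x ∈ Ideal.span {botIso g p hp (iterW g rs (Pi.single 0 (topGen g)) p)} ⊔
      Ideal.ofList (src g rs) := by
  have hp' : p + ((src g rs).length : ℤ) = 0 := by
    rw [length_src, hlen]
    exact hp
  obtain ⟨n, rfl⟩ : ∃ n : ℕ, p = -(n : ℤ) := ⟨g.length, by omega⟩
  have hn : n = g.length := by omega
  have hzero : IsZero ((toChain (KK (src g rs))).X (n + 1)) := by
    change IsZero ((KK (src g rs)).X (-((n + 1 : ℕ) : ℤ)))
    apply isZero_X_of_lt
    rw [length_src, hlen, ← hn]
    push_cast
    omega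
  have hmem := htpy_top_mem (src g rs) (psi g rs hf hg x hx) (psiHtpy g rs hf hg x hx) n hzero
    (botGenCh (src g rs) n hp')
  rw [psi_f_apply, PhiCh_botGenCh g rs n hp hp', map_smul] at hmem
  -- apply the bottom identification
  have h1 := map_mem_smul_top (botIsoCh (src g rs) n hp').toLinearMap _ hmem
  rw [LinearEquiv.coe_coe, map_sub, map_smul, map_smul, botIsoCh_botGenCh] at h1
  have h2 : (Ideal.ofList (src g rs) • (⊤ : Submodule A A)) = Ideal.ofList (src g rs) := by
    rw [Ideal.smul_top_eq_map]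
    simp
  rw [h2] at h1
  set δ := botIso g (-(n : ℤ)) hp (iterW g rs (Pi.single 0 (topGen g)) (-(n : ℤ))) with hδ
  set y := botIsoCh (src g rs) n hp' (((xi g rs hf hg x hx).f n).hom (botGenCh g n hp)) with hy
  rw [smul_eq_mul, smul_eq_mul, mul_one] at h1
  have : x = δ * y - (δ * y - x) := by ring
  rw [this]
  refine sub_mem (Ideal.mem_sup_left ?_) (Ideal.mem_sup_right h1)
  exact Ideal.mul_mem_right _ _ (Ideal.subset_span rfl)

end Main

end Groth.Agent.H98.KoszulDet
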